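import Cfsg.Agent.Lib.CosetEnum.Chain
import Cfsg.Agent.Lib.CosetEnum.Fi23x31671.Enum
import Cfsg.Agent.Lib.CosetEnum.Fi23Chain.L3

/-! An upper bound on a subgroup generated by letters: 5 cosets. -/
-- BOUND 120

set_option autoImplicit false
set_option maxRecDepth 20000
set_option Elab.async false

namespace Cfsg.Agent.Lib.CosetEnum.Fi23Chain.L4

open Cfsg.Agent.Lib.CosetEnum

/-- Coset table. -/
noncomputable def table : PTree :=
  .leaf 0x400000003000000040000000400000003000000040000000200000003000000020000000200000003000000010000000000000001000000010000000200000001000000000000000000000000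

/-- Vertices of the final cosets. -/
noncomputable def vert : PTree :=
  .leaf 0x400000003000000020000000100000000

/-- Facts of the table edges. -/
noncomputable def edge : PTree :=
  .leaf 0x1c000000070000001e0000001a000000160000000600000005000000180000001400000012000000040000000300000001000000100000000e00000002000000000000000c0000000a00000008

/-- All facts. -/
noncomputable def facts : PTree :=
  .leaf 0x10000000400000004000000030000000400000004000000000000000400000004000000000000000300000003000000030000000300000003000000030000000200000002000000020000000200000002000000020000000100000001000000010000000100000001000000020000000000000000000000010000000000000000000000000000000000000000000000020000000400000003000000010000000300000002000000000000000200000001000000030000000100000000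

/-- Packed words. -/
noncomputable def words : PTree :=
  .node 7
  (.node 3
  (.node 1
  (.leaf 0x1)
  (.node 2
  (.leaf 0x40100401)
  (.leaf 0x100802)))
  (.node 5
  (.node 4
  (.leaf 0x40300c03)
  (.leaf 0x42208822))
  (.node 6
  (.leaf 0x108c23)
  (.leaf 0x110c43))))
  (.node 10
  (.node 8
  (.leaf 0x400)
  (.node 9
  (.leaf 0x421)
  (.leaf 0x442)))
  (.node 12
  (.node 11
  (.leaf 0x463)
  (.leaf 0x20))
  (.node 13
  (.leaf 0x21)
  (.leaf 0x22))))

/-- The certificate data. -/
noncomputable def data : Data :=
  ⟨4, 0x418820, facts, words, 11, 14⟩

/-- Steps, part 0. -/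
noncomputable def part0 : List (ℕ × ℕ) :=
  [(12, 0x13000000050000000700000006000000040000000300000002000000040000000200000006000000160000000700000000000000030000000600000004000000070000000600000018000000010000000200000002000000030000000f0000000300000005000000040000000200000003000000020000000100000001000000150000000500000004000000020000000100000005000000020000000200000000000000080000000100000003000000000000000500000003000000020000001100000003000000020000000200000001000000020000000100000001000000000000000c0000000100000002000000060000000000000001000000000000000a0000000100000002000000050000000000000000000000000000000d0000000000000000000000000000000c0000000000000000000000000000000b00000000)]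

theorem part0_ok : chunks data part0 4 = true ∧ 16 = 4 + chunksLen part0 :=
  ⟨by decide +kernel, by decide +kernel⟩

theorem defs_ok : defsOK data 4 = true := by decide +kernel

theorem good (G : Type) (_ : Group G) (φ : ℕ → G) (H : Subgroup G) (hV : Valid data φ H) :
    ∀ i < 16, Good data 4 φ H i :=
  (chunks_sound hV part0 part0_ok.1 part0_ok.2
      (fun i hi => good_defs defs_ok hi))

theorem edges_part0 : allFrom 0 5 (edgeAt data 16 5 table vert edge) = true := by decide +kernel

theorem edges_ok : edgesOK data 16 5 table vert edge = true :=
  (allBelow_add (rfl : allBelow 0 (edgeAt data 16 5 table vert edge) = true) edges_part0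
    (by omega : 0 + 5 = 5))

/-- The order bound. -/
theorem bound :
    Nat.card (subOf Cfsg.Agent.Lib.CosetEnum.Fi23x31671.letters Cfsg.Agent.Lib.CosetEnum.Fi23x31671.pres ([3, 4, 5, 8].map fun g => [g])) ≠ 0 ∧
    Nat.card (subOf Cfsg.Agent.Lib.CosetEnum.Fi23x31671.letters Cfsg.Agent.Lib.CosetEnum.Fi23x31671.pres ([3, 4, 5, 8].map fun g => [g])) ≤ 120 :=
  card_le_of_enum Cfsg.Agent.Lib.CosetEnum.Fi23x31671.letters Cfsg.Agent.Lib.CosetEnum.Fi23x31671.pres Cfsg.Agent.Lib.CosetEnum.Fi23x31671.rels_mem Cfsg.Agent.Lib.CosetEnum.Fi23x31671.letters_ok Cfsg.Agent.Lib.CosetEnum.Fi23x31671.table_ok.col [3, 4, 5, 8]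
    data 4 16 5 table vert edge (by omega) rfl (by decide +kernel) (by decide +kernel)
    (by decide +kernel) [[],
    [0, 1, 0, 1, 0, 1],
    [0, 2, 0, 2],
    [0, 3, 0, 3, 0, 3],
    [1, 2, 1, 2, 1, 2],
    [1, 3, 1, 3],
    [2, 3, 2, 3],
    [0, 0],
    [1, 1],
    [2, 2],
    [3, 3]] [[0],
    [1],
    [2]]
    (by decide +kernel) (by decide +kernel) rfl rfl (by decide +kernel)
    (fun φ H hV => good _ _ φ H hV) (by decide +kernel) edges_ok 24 Cfsg.Agent.Lib.CosetEnum.Fi23Chain.L3.bound

end Cfsg.Agent.Lib.CosetEnum.Fi23Chain.L4
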